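import Mathlib.Algebra.MonoidAlgebra.Basic
import Mathlib.LinearAlgebra.FiniteDimensional.Lemmas
import Mathlib.LinearAlgebra.Dual.Lemmas
import Mathlib.GroupTheory.Sylow
import Mathlib.Algebra.Algebra.Bilinear

/-!
# Dimensions of projective ideals of a group algebra

In characteristic `p` the left ideal generated by an idempotent of `k G` has dimension divisible by
the order of every `p`-subgroup.
-/

set_option autoImplicit false
set_option linter.style.haveILetI false

namespace CfsgLib.Blocks.OneSimple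

open Module
open scoped MonoidAlgebra

variable {k : Type*} [Field k] {p : ℕ} [Fact p.Prime] [CharP k p]
  {P : Type*} [Group P] [Finite P]

/-- A `p`-group acting linearly on a nonzero space in characteristic `p` fixes a nonzero vector. -/
theorem exists_fixed_vector (hP : IsPGroup p P) {V : Type*} [AddCommGroup V] [Module k V]
    (ρ : P →* Module.End k V) {v : V} (hv : v ≠ 0) : ∃ w : V, w ≠ 0 ∧ ∀ g, ρ g w = w := by
  classical
  haveI := Fintype.ofFinite P
  let f : (P → ZMod p) →+ V :=
    { toFun := fun c => ∑ g, ZMod.castHom dvd_rfl k (c g) • ρ g v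
      map_zero' := by simp
      map_add' := fun c d => by simp [add_smul, Finset.sum_add_distrib] }
  haveI : Finite f.range := Finite.of_surjective f.rangeRestrict f.rangeRestrict_surjective
  have hstab : ∀ (h : P) (x : f.range), ρ h x.1 ∈ f.range := by
    rintro h ⟨_, c, rfl⟩
    refine ⟨fun g => c (h⁻¹ * g), ?_⟩
    show ∑ g, ZMod.castHom dvd_rfl k (c (h⁻¹ * g)) • ρ g v =
      ρ h (∑ g, ZMod.castHom dvd_rfl k (c g) • ρ g v)
    rw [map_sum]
    exact Fintype.sum_equiv (Equiv.mulLeft h⁻¹) _ _ fun g => by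
      simp only [Equiv.coe_mulLeft, map_smul, ← Module.End.mul_apply, ← map_mul, mul_inv_cancel_left]
  letI : MulAction P f.range :=
    { smul := fun h x => ⟨ρ h x.1, hstab h x⟩
      one_smul := fun x => Subtype.ext (by show ρ 1 x.1 = x.1; rw [map_one]; rfl)
      mul_smul := fun g h x => Subtype.ext (by
        show ρ (g * h) x.1 = ρ g (ρ h x.1)
        rw [map_mul]; rfl) }
  have hvmem : v ∈ f.range := ⟨Pi.single 1 1, by
    show ∑ g, ZMod.castHom dvd_rfl k (Pi.single (M := fun _ => ZMod p) (1 : P) 1 g) • ρ g v = v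
    rw [Finset.sum_eq_single (1 : P) (fun g _ hg => by rw [Pi.single_eq_of_ne hg, map_zero, zero_smul])
      (by simp), Pi.single_eq_same, map_one, map_one, one_smul]
    rfl⟩
  haveI : Nontrivial f.range :=
    ⟨⟨⟨v, hvmem⟩, 0, fun h => hv (congrArg Subtype.val h)⟩⟩
  have hdvd : p ∣ Nat.card f.range := by
    have h1 : Nat.card f.range ∣ Nat.card (P → ZMod p) := AddSubgroup.card_range_dvd f
    rw [Nat.card_fun, Nat.card_zmod] at h1
    obtain ⟨i, -, hi⟩ := (Nat.dvd_prime_pow (Fact.out : p.Prime)).1 h1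
    rw [hi]
    refine dvd_pow_self p fun h0 => ?_
    rw [h0, pow_zero] at hi
    exact absurd hi (Finite.one_lt_card).ne'
  obtain ⟨w, hw, hne⟩ := hP.exists_fixed_point_of_prime_dvd_card_of_fixed_point f.range hdvd
    (a := 0) (fun g => Subtype.ext (map_zero (ρ g)))
  exact ⟨w.1, fun h => hne (Subtype.ext h).symm, fun g => congrArg Subtype.val (hw g)⟩

variable {V : Type*} [AddCommGroup V] [Module k V] [FiniteDimensional k V]

/-- The span of the elements `g x - x` for `x` in a subspace. -/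
def augSub (ρ : P →* Module.End k V) (W : Submodule k V) : Submodule k V :=
  ⨆ g : P, W.map (ρ g - 1)

/-- Generators modulo the augmentation generate. -/
theorem finrank_le_card_mul (hP : IsPGroup p P) (ρ : P →* Module.End k V) {W : Submodule k V}
    (hW : ∀ g, ∀ x ∈ W, ρ g x ∈ W) :
    augSub ρ W ≤ W ∧ finrank k W ≤ Nat.card P * (finrank k W - finrank k (augSub ρ W)) := by
  classical
  haveI := Fintype.ofFinite P
  have hIW : augSub ρ W ≤ W := iSup_le fun g => by
    rintro _ ⟨x, hx, rfl⟩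
    exact W.sub_mem (hW g x hx) hx
  refine ⟨hIW, ?_⟩
  obtain ⟨U₀, hU₀⟩ := exists_isCompl (augSub ρ W)
  set U := U₀ ⊓ W with hU
  have hsup : augSub ρ W ⊔ U = W := by
    rw [hU, ← sup_inf_assoc_of_le _ hIW, hU₀.sup_eq_top, top_inf_eq]
  have hinf : augSub ρ W ⊓ U = ⊥ :=
    le_bot_iff.mp ((inf_le_inf_left _ inf_le_left).trans hU₀.inf_eq_bot.le)
  have hdimU : finrank k W - finrank k (augSub ρ W) = finrank k U := by
    have h := Submodule.finrank_sup_add_finrank_inf_eq (augSub ρ W) U
    rw [hsup, hinf, finrank_bot, add_zero] at h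
    omega
  set U' := ⨆ g : P, U.map (ρ g) with hU'
  have hU'W : U' ≤ W := iSup_le fun g => by
    rintro _ ⟨x, hx, rfl⟩
    exact hW g x hx.2
  have hU'st : ∀ g, ∀ x ∈ U', ρ g x ∈ U' := fun g x hx => by
    induction hx using Submodule.iSup_induction' with
    | mem h x hx =>
      obtain ⟨u, hu, rfl⟩ := hx
      exact Submodule.mem_iSup_of_mem (g * h) ⟨u, hu, by rw [map_mul]; rfl⟩
    | zero => simp
    | add x y _ _ hx hy => rw [map_add]; exact U'.add_mem hx hy
  have hUU' : U ≤ U' := fun x hx => Submodule.mem_iSup_of_mem 1 ⟨x, hx, by rw [map_one]; rfl⟩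
  have hWU' : W ≤ U' := by
    by_contra hne
    obtain ⟨x, hxW, hx⟩ := SetLike.not_le_iff_exists.mp hne
    let Φ : Submodule k (Module.Dual k W) := (U'.comap W.subtype).dualAnnihilator
    obtain ⟨φ₀, hφ₀, hφU⟩ := Submodule.exists_dual_map_eq_bot_of_notMem
      (p := U'.comap W.subtype) (x := ⟨x, hxW⟩) hx inferInstance
    let σ : P → Module.End k Φ := fun g =>
      LinearMap.restrict ((ρ g⁻¹).restrict (hW g⁻¹)).dualMap fun φ hφ => by
        rw [Submodule.mem_dualAnnihilator] at hφ ⊢
        intro y hy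
        exact hφ _ (hU'st g⁻¹ _ hy)
    let ρ' : P →* Module.End k Φ :=
      { toFun := σ
        map_one' := LinearMap.ext fun φ => Subtype.ext (LinearMap.ext fun y => by
          show φ.1 ⟨ρ (1 : P)⁻¹ y.1, _⟩ = φ.1 y
          congr 1
          exact Subtype.ext (by simp))
        map_mul' := fun g h => LinearMap.ext fun φ => Subtype.ext (LinearMap.ext fun y => by
          show φ.1 ⟨ρ (g * h)⁻¹ y.1, _⟩ = φ.1 ⟨ρ h⁻¹ (ρ g⁻¹ y.1), _⟩
          congr 1
          exact Subtype.ext (by simp)) }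
    have hφmem : φ₀ ∈ Φ := by
      rw [Submodule.mem_dualAnnihilator]
      intro y hy
      have : φ₀ y ∈ (U'.comap W.subtype).map φ₀ := ⟨y, hy, rfl⟩
      rwa [hφU, Submodule.mem_bot] at this
    obtain ⟨φ, hφne, hφfix⟩ := exists_fixed_vector hP ρ' (v := (⟨φ₀, hφmem⟩ : Φ))
      fun h => hφ₀ (by
        have h' : φ₀ = 0 := congrArg Subtype.val h
        rw [h']; rfl)
    refine hφne (Subtype.ext (LinearMap.ext fun y => ?_))
    have hker : W ≤ (LinearMap.ker φ.1).map W.subtype := by
      calc W = augSub ρ W ⊔ U := hsup.symm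
        _ ≤ _ := sup_le (iSup_le fun g => ?_) ?_
      · rintro _ ⟨z, hz, rfl⟩
        refine ⟨⟨ρ g z - z, W.sub_mem (hW g z hz) hz⟩, ?_, rfl⟩
        have h := LinearMap.congr_fun (congrArg Subtype.val (hφfix g⁻¹)) ⟨z, hz⟩
        change φ.1 ⟨ρ g⁻¹⁻¹ z, _⟩ = φ.1 ⟨z, hz⟩ at h
        simp only [inv_inv] at h
        rw [SetLike.mem_coe, LinearMap.mem_ker, show (⟨ρ g z - z, W.sub_mem (hW g z hz) hz⟩ : W) =
          ⟨ρ g z, hW g z hz⟩ - ⟨z, hz⟩ from rfl, map_sub, h, sub_self]
      · intro u hu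
        exact ⟨⟨u, hu.2⟩, (Submodule.mem_dualAnnihilator _).mp φ.2 _ (hUU' hu), rfl⟩
    obtain ⟨y', hy', hyy⟩ := hker y.2
    rw [show y = y' from Subtype.ext hyy.symm]
    exact hy'
  rw [hdimU]
  have hsum : finrank k U' ≤ ∑ g : P, finrank k (U.map (ρ g)) := by
    rw [hU', ← Finset.sup_univ_eq_iSup]
    refine Finset.induction_on (Finset.univ : Finset P) ?_ fun a s ha ih => ?_
    · simp
    · rw [Finset.sup_insert, Finset.sum_insert ha]
      exact (Submodule.finrank_add_le_finrank_add_finrank _ _).trans (by omega)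
  calc finrank k W ≤ finrank k U' := Submodule.finrank_mono hWU'
    _ ≤ ∑ g : P, finrank k (U.map (ρ g)) := hsum
    _ ≤ ∑ _g : P, finrank k U := Finset.sum_le_sum fun g _ => Submodule.finrank_map_le _ _
    _ = Nat.card P * finrank k U := by
      rw [Finset.sum_const, Finset.card_univ, smul_eq_mul, Nat.card_eq_fintype_card]

/-- The left ideal of an idempotent has dimension divisible by the order of a `p`-subgroup. -/
theorem card_dvd_finrank {G : Type*} [Group G] [Finite G] [FiniteDimensional k k[G]]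
    {Q : Subgroup G} (hQ : IsPGroup p Q) {f : k[G]} (hf : f * f = f) :
    Nat.card Q ∣ finrank k (LinearMap.range (LinearMap.mulRight k f)) := by
  classical
  haveI := Fintype.ofFinite G
  let ρ : Q →* Module.End k k[G] :=
    (Algebra.lmul k k[G]).toMonoidHom.comp ((MonoidAlgebra.of k G).comp Q.subtype)
  have hρ : ∀ (g : Q) x, ρ g x = MonoidAlgebra.single (g : G) 1 * x := fun g x => rfl
  set V₁ := LinearMap.range (LinearMap.mulRight k f) with hV₁
  set V₂ := LinearMap.range (LinearMap.mulRight k (1 - f)) with hV₂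
  have hst : ∀ a : k[G], ∀ g, ∀ x ∈ LinearMap.range (LinearMap.mulRight k a),
      ρ g x ∈ LinearMap.range (LinearMap.mulRight k a) := by
    rintro a g _ ⟨y, rfl⟩
    exact ⟨MonoidAlgebra.single (g : G) 1 * y, by simp [hρ, mul_assoc]⟩
  obtain ⟨hI₁, hle₁⟩ := finrank_le_card_mul hQ ρ (hst f)
  obtain ⟨hI₂, hle₂⟩ := finrank_le_card_mul hQ ρ (hst (1 - f))
  set I₁ := augSub ρ V₁
  set I₂ := augSub ρ V₂
  have hsup : V₁ ⊔ V₂ = ⊤ := eq_top_iff.mpr fun x _ =>
    Submodule.mem_sup.mpr ⟨_, ⟨x, rfl⟩, _, ⟨x, rfl⟩, by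
      simp [LinearMap.mulRight_apply, mul_sub]⟩
  have hinf : V₁ ⊓ V₂ = ⊥ := le_bot_iff.mp fun x hx => by
    obtain ⟨⟨a, rfl⟩, b, hb⟩ := hx
    simp only [LinearMap.mulRight_apply] at hb ⊢
    rw [Submodule.mem_bot, ← mul_one (a * f), ← sub_add_cancel (1 : k[G]) f, mul_add]
    have h2 : a * f * f = 0 := by
      rw [← hb, mul_assoc, sub_mul, one_mul, hf, sub_self, mul_zero]
    rw [h2, add_zero, mul_sub, mul_one, h2, sub_zero, ← hf, ← mul_assoc, h2]
  have hdim : finrank k V₁ + finrank k V₂ = finrank k k[G] := by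
    have h := Submodule.finrank_sup_add_finrank_inf_eq V₁ V₂
    rw [hsup, hinf, finrank_top, finrank_bot, add_zero] at h
    exact h.symm
  have hG : finrank k k[G] = Nat.card G := by
    rw [(MonoidAlgebra.coeffLinearEquiv k (M := G)).finrank_eq, Module.finrank_finsupp_self,
      Nat.card_eq_fintype_card]
  -- the representatives of the cosets span modulo the augmentation
  let R : Submodule k k[G] := Submodule.span k
    (Set.range fun c : Quotient (QuotientGroup.rightRel Q) => MonoidAlgebra.single c.out (1 : k))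
  have hall : (⊤ : Submodule k k[G]) ≤ I₁ ⊔ I₂ ⊔ R := by
    intro x _
    rw [← MonoidAlgebra.sum_coeff_single x]
    refine Submodule.sum_mem _ fun g _ => ?_
    show MonoidAlgebra.single g (x.coeff g) ∈ _
    rw [show MonoidAlgebra.single g (x.coeff g) = x.coeff g • MonoidAlgebra.single g (1 : k) by simp]
    refine Submodule.smul_mem _ _ ?_
    set r := (⟦g⟧ : Quotient (QuotientGroup.rightRel Q)).out with hr
    have hmem : g * r⁻¹ ∈ Q :=
      QuotientGroup.rightRel_apply.mp (Quotient.exact (Quotient.out_eq _))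
    have hg : MonoidAlgebra.single g (1 : k) =
        (ρ ⟨_, hmem⟩ - 1) (MonoidAlgebra.single r 1 * f) +
        (ρ ⟨_, hmem⟩ - 1) (MonoidAlgebra.single r 1 * (1 - f)) + MonoidAlgebra.single r 1 := by
      rw [← map_add, ← mul_add, add_sub_cancel, mul_one, LinearMap.sub_apply, hρ,
        Module.End.one_apply, MonoidAlgebra.single_mul_single, inv_mul_cancel_right, one_mul,
        sub_add_cancel]
    rw [hg]
    refine add_mem (add_mem ?_ ?_) ?_
    · exact Submodule.mem_sup_left (Submodule.mem_sup_left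
        (Submodule.mem_iSup_of_mem _ ⟨_, ⟨_, rfl⟩, rfl⟩))
    · exact Submodule.mem_sup_left (Submodule.mem_sup_right
        (Submodule.mem_iSup_of_mem _ ⟨_, ⟨_, rfl⟩, rfl⟩))
    · exact Submodule.mem_sup_right (Submodule.subset_span ⟨_, rfl⟩)
  have hR : finrank k R ≤ Q.index := by
    haveI := Fintype.ofFinite (Quotient (QuotientGroup.rightRel Q))
    refine (finrank_range_le_card _).trans (le_of_eq ?_)
    rw [← Nat.card_eq_fintype_card, Nat.card_congr (QuotientGroup.quotientRightRelEquivQuotientLeftRel Q)]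
    rfl
  have h3 : finrank k k[G] ≤ finrank k I₁ + finrank k I₂ + finrank k R := by
    rw [← finrank_top k k[G]]
    refine (Submodule.finrank_mono hall).trans ?_
    refine (Submodule.finrank_add_le_finrank_add_finrank _ _).trans ?_
    exact Nat.add_le_add_right (Submodule.finrank_add_le_finrank_add_finrank _ _) _
  have hi₁ := Submodule.finrank_mono hI₁
  have hi₂ := Submodule.finrank_mono hI₂
  obtain ⟨a, ha⟩ := Nat.exists_eq_add_of_le hi₁
  obtain ⟨b, hb⟩ := Nat.exists_eq_add_of_le hi₂
  rw [ha, Nat.add_sub_cancel_left] at hle₁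
  rw [hb, Nat.add_sub_cancel_left] at hle₂
  rw [hV₁, hV₂] at hdim
  have hab : a + b ≤ Q.index := by omega
  have hprod := Q.card_mul_index
  have hkey : Nat.card Q * (a + b) ≤ Nat.card G := hprod ▸ Nat.mul_le_mul_left _ hab
  rw [Nat.mul_add] at hkey
  refine ⟨a, ?_⟩
  show finrank k (LinearMap.range (LinearMap.mulRight k f)) = _
  omega

end CfsgLib.Blocks.OneSimple
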